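/- B & G section 3 (all of `S/BG03`): see `BG03a`, `BG03b`, `BG03c`. -/
import Cfsg.Agent.FT.BG03c
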