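/- B & G section 14 (all results; same names and statements as `FT/S/BG14.lean`). -/
import Cfsg.Agent.FT.BG14d
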