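/- Peterfalvi (12.17), from (12.7).  Owner: helper1. -/
import Cfsg.Agent.FT.PF12a
import Cfsg.Agent.FT.S.PF07

set_option autoImplicit false

namespace Cfsg.Agent.FT

open Subgroup Cfsg.Agent.Lib.Core
open scoped Cfsg.Agent.Lib.Glaub ComplexConjugate ComplexOrder Classical

variable {G : Type*} [Group G] [MinS G]

theorem P12.not_all (h7 : ∀ M : Subgroup G, IsCoatom M → FTtype M = 1 → FrobKer M (Fcore M)) :
    ¬ AllType1 G := fun hall => by
  have cent : ∀ M : Subgroup G, IsCoatom M → ∀ x ∈ sharp (Fcore M), C1 x ≤ M := fun M hM x hx => by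
    by_contra hn
    obtain ⟨-, hu, -, -, -, ⟨h1, h2⟩, -⟩ := (FTsupport_facts hM).2 x (PF8.subF hM hx) hn
    rw [FTsupp_Frobenius hu.coatom (h7 _ hu.coatom (hall _ hu.coatom))] at h1
    exact h2 (P12.A1_type1 (hall _ hu.coatom) ▸ h1)
  have ti : ∀ M : Subgroup G, IsCoatom M → NormedTI (sharp (Fcore M)) ⊤ M := fun M hM => by
    refine ⟨exists_ne_one (mmax_Fcore_neq1 hM), le_top, fun a ha g _ => ⟨fun h => ?_, fun h => PF8.normF M g h a ha⟩⟩
    obtain ⟨y, hy, e⟩ := (FTsupport_facts hM).1 a (PF8.subF hM ha) _ (PF8.subF hM h) ⟨g, mem_top _, rfl⟩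
    have : y⁻¹ * g ∈ M := cent M hM a ha (mem_centralizer_singleton_iff.mpr (by
      rw [show y⁻¹ * g * a = y⁻¹ * (g * a * g⁻¹) * g by group, e]; group))
    simpa using M.mul_mem hy this
  let r : Subgroup G → Subgroup G := fun M => Classical.epsilon (ConjIn ⊤ M)
  have r1 : ∀ M, ConjIn ⊤ M (r M) := fun M => Classical.epsilon_spec ⟨M, ConjIn.refl _ _⟩
  have r2 : ∀ M N, ConjIn ⊤ M N → r M = r N := fun M N h =>
    congrArg Classical.epsilon (funext fun K => propext ⟨h.symm.trans, h.trans⟩)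
  have r3 : ∀ M, IsCoatom M → IsCoatom (r M) := fun M hM => by
    obtain ⟨g, -, e⟩ := r1 M; rw [e]; exact (mmaxJ _ _).mpr hM
  have := Fintype.ofFinite (Subgroup G)
  let I : Finset (Subgroup G) := (Finset.univ.filter IsCoatom).image r
  have hI : ∀ M ∈ I, IsCoatom M ∧ r M = M := fun M hM => by
    obtain ⟨N, hN, rfl⟩ := Finset.mem_image.mp hM
    exact ⟨r3 N (by simpa using hN), (r2 _ _ (r1 N)).symm⟩
  have mI : ∀ M, IsCoatom M → r M ∈ I := fun M hM => Finset.mem_image_of_mem _ (by simpa using hM)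
  obtain ⟨M₀, hM₀, -⟩ := mmax_exists ((mFT_sol_proper (H := (⊥ : Subgroup G))).mpr inferInstance)
  obtain ⟨g, -, g1, hg⟩ := no_coherent_Frobenius_partition I id Fcore (mFT_odd ⊤) ⟨_, mI _ hM₀⟩
    (fun M hM => h7 M (hI M hM).1 (hall M (hI M hM).1)) (fun M _ => Fcore_nil M) (fun M hM => ti M (hI M hM).1)
    fun M hM N hN hne => by
      rw [← FTcore_type1 (hall M (hI M hM).1), ← FTcore_type1 (hall N (hI N hN).1)]
      exact FT_Dade_support_partition.2.1 M N (hI M hM).1 (hI N hN).1 fun h =>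
        hne ((hI M hM).2.symm.trans ((r2 _ _ h).trans (hI N hN).2))
  obtain ⟨M, hM, x, hx, s, hs, k, rfl⟩ := FT_Dade_support_partition.2.2.2.2.2.1 hall g g1
  rw [P12.A1_type1 (hall M hM)] at hx
  rw [FTsignalizer, if_pos (cent M hM x hx), mem_bot] at hs
  obtain ⟨y, -, e⟩ := r1 M
  refine hg _ (mI M hM) ⟨y * x * y⁻¹, ?_, k * y⁻¹, mem_top _, by rw [hs]; group⟩
  rw [e, FcoreJ]
  exact ⟨conj_mem_cj.mpr hx.1, fun h => hx.2 (by simpa using h)⟩

end Cfsg.Agent.FT
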